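import Groth.Agent.H8Props.PushoutQF.Main
import Groth.Agent.H28Pinch.Glued
import Groth.Agent.H7Flat.AdaptedPairs
import Mathlib.AlgebraicGeometry.Morphisms.QuasiSeparated

/-!
# Separatedness and finiteness of pushouts along a closed immersion and an integral morphism
-/

set_option autoImplicit false
set_option linter.style.haveILetI false
set_option backward.isDefEq.respectTransparency false

universe u

open CategoryTheory Limits AlgebraicGeometry TopologicalSpace Opposite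

namespace Groth.Agent.H8Props.PushoutProps

open Groth.Agent.H7Flat

/-- The images of two jointly surjective quasi-compact maps detect quasi-separatedness. -/
theorem quasiSeparated_of_pair {X T P Y : Scheme.{u}} (a : X ⟶ P) (b : T ⟶ P) (g : P ⟶ Y)
    (hjs : ∀ r : P, (∃ x, a x = r) ∨ ∃ τ, b τ = r) [QuasiCompact a] [QuasiCompact b]
    [QuasiSeparated (a ≫ g)] [QuasiSeparated (b ≫ g)] : QuasiSeparated g := by
  refine ⟨⟨fun V hV hVc => ?_⟩⟩
  have key : ∀ {W : Scheme.{u}} (c : W ⟶ P) [QuasiCompact c] [QuasiSeparated (c ≫ g)],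
      IsCompact ((c ≫ pullback.diagonal g) ⁻¹' V) := by
    intro W c _ _
    let m : pullback (c ≫ g) (c ≫ g) ⟶ pullback g g :=
      pullback.map (c ≫ g) (c ≫ g) g g c c (𝟙 Y) (Category.comp_id _) (Category.comp_id _)
    haveI hm : QuasiCompact m :=
      MorphismProperty.pullbackMap (P := @QuasiCompact) ‹QuasiCompact c› ‹QuasiCompact c› rfl rfl
    have e : c ≫ pullback.diagonal g = pullback.diagonal (c ≫ g) ≫ m :=
      pullback.hom_ext (by simp only [m, pullback.map, Category.assoc, pullback.lift_fst, pullback.diagonal_fst_assoc, pullback.diagonal_fst, Category.comp_id]) (by simp only [m, pullback.map, Category.assoc, pullback.lift_snd, pullback.diagonal_snd_assoc, pullback.diagonal_snd, Category.comp_id])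
    rw [e]
    exact (pullback.diagonal (c ≫ g) ≫ m).isCompact_preimage hVc (U := ⟨V, hV⟩)
  have e : pullback.diagonal g ⁻¹' V =
      a '' ((a ≫ pullback.diagonal g) ⁻¹' V) ∪ b '' ((b ≫ pullback.diagonal g) ⁻¹' V) := by
    ext r
    constructor
    · intro hr
      rcases hjs r with ⟨x, rfl⟩ | ⟨τ, rfl⟩
      · exact Or.inl ⟨x, by simpa using hr, rfl⟩
      · exact Or.inr ⟨τ, by simpa using hr, rfl⟩
    · rintro (⟨x, hx, rfl⟩ | ⟨τ, hτ, rfl⟩)
      · simpa using hx
      · simpa using hτ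
  rw [e]
  exact ((key a).image a.continuous).union ((key b).image b.continuous)

variable {X Y Z P S : Scheme.{u}}

/-- The maps into a pushout are jointly surjective, with the expected properties. -/
theorem pushout_facts (i : Z ⟶ X) (j : Z ⟶ Y) [IsClosedImmersion i] [IsIntegralHom j]
    (haff : ∀ y : Y, ∃ U : X.Opens, IsAffineOpen U ∧ j ⁻¹' {y} ⊆ (i ⁻¹ᵁ U : Set ↑Z))
    (a : X ⟶ P) (b : Y ⟶ P) (hP : IsPushout i j a b) :
    IsIntegralHom a ∧ IsClosedImmersion b ∧ ∀ r : P, (∃ x, a x = r) ∨ ∃ y, b y = r := by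
  have hcov : ∀ y : Y, ∃ π : AP i j, y ∈ π.V := exists_adapted_pair i j haff
  obtain ⟨e, he1, he2⟩ := H28Pinch.exists_iso_glued a b hP hcov
  haveI := inX_isIntegralHom hcov
  haveI := inY_isClosedImmersion hcov
  refine ⟨he1 ▸ inferInstance, he2 ▸ inferInstance, fun r => ?_⟩
  rcases H28Pinch.exists_preimage hcov (e.inv r) with ⟨x, hx⟩ | ⟨y, hy⟩
  · exact .inl ⟨x, by rw [← he1, Scheme.Hom.comp_apply, hx, ← Scheme.Hom.comp_apply, e.inv_hom_id]; rfl⟩
  · exact .inr ⟨y, by rw [← he2, Scheme.Hom.comp_apply, hy, ← Scheme.Hom.comp_apply, e.inv_hom_id]; rfl⟩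

/-- The glued scheme over a Noetherian base is of finite type, without hypotheses on affine lifts. -/
theorem glued_locallyOfFiniteType {i : Z ⟶ X} {j : Z ⟶ Y} [IsClosedImmersion i] [IsIntegralHom j]
    (hcov : ∀ y : Y, ∃ π : AP i j, y ∈ π.V) (p : X ⟶ S) (q : Y ⟶ S) (r : glued i j ⟶ S)
    (hp : inX hcov ≫ r = p) (hq : inY hcov ≫ r = q) [IsLocallyNoetherian S] [LocallyOfFiniteType p]
    [LocallyOfFiniteType q] : LocallyOfFiniteType r := by
  haveI : LocallyOfFiniteType (inX hcov ≫ r) := hp ▸ inferInstance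
  haveI := H28Pinch.inX_isFinite hcov r
  let I := {π : AP i j // ∃ W : S.Opens, IsAffineOpen W ∧ π.U ≤ p ⁻¹ᵁ W ∧ π.V ≤ q ⁻¹ᵁ W}
  have hcover : ∀ w : glued i j, ∃ π : I, w ∈ (chart i j π.1).opensRange := by
    intro w
    obtain ⟨π, s, rfl⟩ := chart_jointly_surjective i j w
    obtain ⟨W, hW, hwW, -⟩ :=
      exists_isAffineOpen_mem_and_subset (Set.mem_univ (r (chart i j π s))) (U := (⊤ : S.Opens))
    have hO : ∀ z ∈ π.W, i z ∈ p ⁻¹ᵁ W ↔ j z ∈ q ⁻¹ᵁ W := fun z _ => by
      show p (i z) ∈ W ↔ q (j z) ∈ W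
      rw [← hp, ← hq, ← Scheme.Hom.comp_apply, ← Scheme.Hom.comp_apply j, ← Category.assoc,
        inX_comm hcov, Category.assoc]
    have hs : (∃ α : PrimeSpectrum Γ(X, π.U), π.hU.fromSpec α ∈ p ⁻¹ᵁ W ∧ PrimeSpectrum.comap π.pa α = s) ∨
        ∃ β : PrimeSpectrum Γ(Y, π.V), π.hV.fromSpec β ∈ q ⁻¹ᵁ W ∧ PrimeSpectrum.comap π.pb β = s := by
      obtain ⟨β, hβ⟩ | ⟨α, hα, -⟩ := π.ringSq.exists_preimage s
      · refine .inr ⟨β, ?_, hβ⟩
        show q (π.hV.fromSpec β) ∈ W
        rw [← hq, ← Scheme.Hom.comp_apply, ← Category.assoc, fromSpec_inY hcov, Category.assoc,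
          Scheme.Hom.comp_apply, Scheme.Hom.comp_apply]
        have := congr(r (chart i j π $hβ))
        exact this ▸ hwW
      · refine .inl ⟨α, ?_, hα⟩
        show p (π.hU.fromSpec α) ∈ W
        rw [← hp, ← Scheme.Hom.comp_apply, ← Category.assoc, fromSpec_inX hcov, Category.assoc,
          Scheme.Hom.comp_apply, Scheme.Hom.comp_apply]
        have := congr(r (chart i j π $hα))
        exact this ▸ hwW
    obtain ⟨e, he, h1, h2⟩ := π.exists_basic_of_opens _ _ hO s hs
    refine ⟨⟨π.basic e, W, hW, h1, h2⟩, ?_⟩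
    obtain ⟨s₀, hs₀⟩ := (π.range_res_basic e).ge he
    exact ⟨s₀, by rw [← chart_res i j (π.basic_le e), Scheme.Hom.comp_apply, hs₀]⟩
  choose c hc using hcover
  let 𝒰 : (glued i j).OpenCover :=
    { I₀ := I
      X := fun π => Spec (CommRingCat.of π.1.R)
      f := fun π => chart i j π.1
      mem₀ := by
        rw [Scheme.presieve₀_mem_precoverage_iff]
        exact ⟨fun w => ⟨c w, hc w⟩, fun π => inferInstance⟩ }
  refine IsZariskiLocalAtSource.of_openCover (P := @LocallyOfFiniteType) 𝒰 fun ⟨π, W, hW, hU, hV⟩ => ?_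
  obtain ⟨φ, h1, h2, h3⟩ := H28Pinch.chart_over hcov p q r hp hq π hW hU hV
  show LocallyOfFiniteType (chart i j π ≫ r)
  rw [h3]
  haveI : IsNoetherianRing Γ(S, W) := IsLocallyNoetherian.component_noetherian ⟨W, hW⟩
  have hpa : IsFinite (sm π.pa) :=
    MorphismProperty.of_isPullback (P := @IsFinite)
      (IsOpenImmersion.isPullback (sm π.pa) π.hU.fromSpec (chart i j π) (inX hcov)
        (fromSpec_inX hcov π) (inX_preimage hcov π)).flip inferInstance
  have hφ : φ.FiniteType := by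
    refine H28Pinch.fg_of_finite φ π.pa π.pb π.ringSq.ext ?_ ?_ ((IsFinite.SpecMap_iff _).mp hpa)
      (RingHom.Finite.of_surjective _ π.ringSq.snd_surjective)
    · rw [h1]; exact p.finiteType_appLE hW π.hU hU
    · rw [h2]; exact q.finiteType_appLE hW π.hV hV
  haveI : LocallyOfFiniteType (sm φ) :=
    (HasRingHomProperty.Spec_iff (P := @LocallyOfFiniteType)).mpr hφ
  infer_instance

theorem pushout_locallyOfFiniteType (i : Z ⟶ X) (j : Z ⟶ Y) [IsClosedImmersion i] [IsIntegralHom j]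
    (haff : ∀ y : Y, ∃ U : X.Opens, IsAffineOpen U ∧ j ⁻¹' {y} ⊆ (i ⁻¹ᵁ U : Set ↑Z))
    (a : X ⟶ P) (b : Y ⟶ P) (hP : IsPushout i j a b) (p : X ⟶ S) (q : Y ⟶ S) (r : P ⟶ S)
    (hp : a ≫ r = p) (hq : b ≫ r = q) [IsLocallyNoetherian S] [LocallyOfFiniteType p]
    [LocallyOfFiniteType q] : LocallyOfFiniteType r := by
  have hcov : ∀ y : Y, ∃ π : AP i j, y ∈ π.V := exists_adapted_pair i j haff
  obtain ⟨e, he1, he2⟩ := H28Pinch.exists_iso_glued a b hP hcov
  haveI := glued_locallyOfFiniteType hcov p q (e.hom ≫ r) (by rw [← Category.assoc, he1, hp])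
    (by rw [← Category.assoc, he2, hq])
  rw [show r = e.inv ≫ e.hom ≫ r by rw [e.inv_hom_id_assoc]]
  infer_instance

end Groth.Agent.H8Props.PushoutProps
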