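import Groth.Agent.H28Pinch.ModuleDescent
import Mathlib.RingTheory.FinitePresentation
import Mathlib.RingTheory.FiniteStability
import Mathlib.RingTheory.Flat.Equalizer
import Mathlib.LinearAlgebra.TensorProduct.RightExactness

/-!
# Flatness and finite presentation of algebras over a fibre product of two quotient rings
-/

set_option autoImplicit false
set_option linter.style.haveILetI false

universe u

open TensorProduct

namespace Groth.Agent.H8Props.PushoutProps

variable {R A B : Type u} [CommRing R] [CommRing A] [CommRing B] [Algebra R A] [Algebra R B]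
  (hA : Function.Surjective (algebraMap R A)) (hB : Function.Surjective (algebraMap R B))
  (hinj : RingHom.ker (algebraMap R B) ⊓ RingHom.ker (algebraMap R A) = ⊥)

include hB in
theorem hI_of_surjective : ∀ a ∈ Ideal.map (algebraMap R B) (RingHom.ker (algebraMap R A)),
    ∃ i ∈ RingHom.ker (algebraMap R A), algebraMap R B i = a :=
  fun _ ha => (Ideal.mem_map_iff_of_surjective _ hB).1 ha

include hA hB hinj in
theorem flat_of_pieces {M : Type u} [AddCommGroup M] [Module R M] [Module.Flat A (A ⊗[R] M)]
    [Module.Flat B (B ⊗[R] M)] : Module.Flat R M :=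
  H28Pinch.ModuleDescent.flat_descent hA hinj (hI_of_surjective hB)

theorem exists_finset_ker {C R' T : Type u} [CommRing C] [Algebra R C] [CommRing R'] [Algebra R R']
    [CommRing T] [Algebra R T] [Algebra.FinitePresentation R T]
    [Algebra.FinitePresentation C (C ⊗[R] R')] (f : T →ₐ[R] R') (hf : Function.Surjective f) :
    ∃ s : Set T, s.Finite ∧ s ⊆ RingHom.ker f ∧
      RingHom.ker (Algebra.TensorProduct.map (AlgHom.id R C) f) ≤
        (Ideal.span s).map (Algebra.TensorProduct.includeRight : T →ₐ[R] C ⊗[R] T) := by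
  classical
  let fC : C ⊗[R] T →ₐ[C] C ⊗[R] R' := Algebra.TensorProduct.map (AlgHom.id C C) f
  have hsurj : Function.Surjective fC := LinearMap.lTensor_surjective C (g := f.toLinearMap) hf
  have hfg : (RingHom.ker (Algebra.TensorProduct.map (AlgHom.id R C) f)).FG :=
    Algebra.FinitePresentation.ker_fG_of_surjective fC hsurj
  rw [Algebra.TensorProduct.lTensor_ker _ hf] at hfg ⊢
  obtain ⟨s, hs, he⟩ := (Submodule.fg_span_iff_fg_span_finset_subset _).1 hfg
  choose k hk hks using fun x : (s : Set (C ⊗[R] T)) => hs x.2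
  refine ⟨Set.range k, Set.finite_range k, ?_, ?_⟩
  · rintro _ ⟨x, rfl⟩
    exact hk x
  · refine (le_of_eq he).trans (Submodule.span_le.2 fun x hx => ?_)
    have h1 := Ideal.mem_map_of_mem (Algebra.TensorProduct.includeRight : T →ₐ[R] C ⊗[R] T)
      (Ideal.subset_span (s := Set.range k) ⟨⟨x, hx⟩, rfl⟩)
    rw [hks] at h1
    exact h1

include hA hB hinj in
theorem finitePresentation_of_pieces {R' : Type u} [CommRing R'] [Algebra R R'] [Algebra.FiniteType R R']
    [Module.Flat R R'] [Algebra.FinitePresentation A (A ⊗[R] R')]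
    [Algebra.FinitePresentation B (B ⊗[R] R')] : Algebra.FinitePresentation R R' := by
  classical
  obtain ⟨n, f, hf⟩ := Algebra.FiniteType.iff_quotient_mvPolynomial''.1 ‹Algebra.FiniteType R R'›
  obtain ⟨sA, hsA, hsAK, hkA⟩ := exists_finset_ker (C := A) f hf
  obtain ⟨sB, hsB, hsBK, hkB⟩ := exists_finset_ker (C := B) f hf
  let K₀ : Ideal (MvPolynomial (Fin n) R) := Ideal.span (sA ∪ sB)
  have hK₀fg : K₀.FG := Submodule.fg_span (hsA.union hsB)
  have hK₀ : K₀ ≤ RingHom.ker f := Ideal.span_le.2 (Set.union_subset hsAK hsBK)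
  let q := Ideal.Quotient.mkₐ R K₀
  let π : (MvPolynomial (Fin n) R ⧸ K₀) →ₐ[R] R' := Ideal.Quotient.liftₐ K₀ f fun x hx => hK₀ hx
  have hπ : Function.Surjective π := fun x => by
    obtain ⟨y, rfl⟩ := hf x
    exact ⟨q y, rfl⟩
  let N := LinearMap.ker π.toLinearMap
  have key : ∀ (C : Type u) [CommRing C] [Algebra R C] (s : Set (MvPolynomial (Fin n) R)),
      s ⊆ sA ∪ sB → RingHom.ker (Algebra.TensorProduct.map (AlgHom.id R C) f) ≤
        (Ideal.span s).map (Algebra.TensorProduct.includeRight : _ →ₐ[R] C ⊗[R] _) →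
      Subsingleton (C ⊗[R] N) := by
    intro C _ _ s hs hker
    refine subsingleton_of_forall_eq 0 fun z => ?_
    have hinjN : Function.Injective (N.subtype.lTensor C) :=
      LinearMap.lTensor_injective_of_exact_of_flat π.toLinearMap hπ _ Subtype.val_injective
        (LinearMap.exact_subtype_ker_map π.toLinearMap) C
    refine hinjN (a₂ := 0) ?_
    rw [map_zero]
    obtain ⟨w, hw⟩ : ∃ w, Algebra.TensorProduct.map (AlgHom.id R C) q w = N.subtype.lTensor C z :=
      LinearMap.lTensor_surjective C (g := q.toLinearMap) Ideal.Quotient.mk_surjective _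
    have hwf : Algebra.TensorProduct.map (AlgHom.id R C) f w = 0 := by
      show f.toLinearMap.lTensor C w = 0
      rw [show f.toLinearMap = π.toLinearMap ∘ₗ q.toLinearMap from rfl, LinearMap.lTensor_comp_apply,
        show q.toLinearMap.lTensor C w = N.subtype.lTensor C z from hw, ← LinearMap.lTensor_comp_apply,
        show π.toLinearMap ∘ₗ N.subtype = 0 from LinearMap.ext fun x => x.2,
        LinearMap.lTensor_zero, LinearMap.zero_apply]
    have h2 : w ∈ RingHom.ker (Algebra.TensorProduct.map (AlgHom.id R C) q) := by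
      rw [Algebra.TensorProduct.lTensor_ker q (Ideal.Quotient.mkₐ_surjective R K₀),
        show RingHom.ker q = K₀ from Ideal.Quotient.mkₐ_ker R K₀]
      exact Ideal.map_mono (Ideal.span_mono hs) (hker hwf)
    exact hw.symm.trans h2
  haveI := key A sA Set.subset_union_left hkA
  haveI := key B sB Set.subset_union_right hkB
  haveI : Subsingleton N :=
    H28Pinch.ModuleDescent.subsingleton_descent hA hinj (hI_of_surjective hB) (M := N)
  have hπinj : Function.Injective π := (injective_iff_map_eq_zero π).2 fun x hx =>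
    congrArg Subtype.val (Subsingleton.elim (⟨x, hx⟩ : N) 0)
  haveI : Algebra.FinitePresentation R (MvPolynomial (Fin n) R ⧸ K₀) :=
    Algebra.FinitePresentation.quotient hK₀fg
  exact Algebra.FinitePresentation.equiv (AlgEquiv.ofBijective π ⟨hπinj, hπ⟩)

end Groth.Agent.H8Props.PushoutProps
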