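import Groth.Agent.H28Pinch.ToRinged
import Groth.Agent.H28Pinch.BaseChangeAny
import Groth.Agent.H7Flat.AdaptedPairs
import Mathlib.CategoryTheory.Comma.Over.Pullback

/-!
# Base change of pushouts along closed immersions
-/

set_option autoImplicit false
set_option linter.style.haveILetI false
set_option backward.isDefEq.respectTransparency false

universe u

open CategoryTheory Limits AlgebraicGeometry TopologicalSpace Opposite

namespace Groth.Agent.H8Props.PushoutProps

open Groth.Agent.H7Flat Groth.Agent.H28Pinch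

variable {X T Z P S S' : Scheme.{u}} {ι : Z ⟶ X} {ξ : Z ⟶ T} [IsClosedImmersion ι]
  {a : X ⟶ P} {b : T ⟶ P}

/-- Pushouts are covered by arbitrarily small charts. -/
theorem exists_chart_refine (hP : IsPushout ι ξ a b) (hcov : ∀ τ : T, ∃ π : AP ι ξ, τ ∈ π.V)
    (O : P.Opens) (r : P) (hr : r ∈ O) :
    ∃ c : Chart ι ξ a b, r ∈ Set.range c.u ∧ Set.range c.u ⊆ (O : Set P) := by
  obtain ⟨e, rfl, rfl⟩ := exists_iso_glued a b hP hcov
  obtain ⟨π, s, hs⟩ := chart_jointly_surjective ι ξ (e.inv r)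
  have hA : ∀ α, inX hcov (π.hU.fromSpec α) = chart ι ξ π (PrimeSpectrum.comap π.pa α) := fun α =>
    congrArg (fun m : Spec _ ⟶ glued ι ξ => m α) (fromSpec_inX hcov π)
  have hB : ∀ β, inY hcov (π.hV.fromSpec β) = chart ι ξ π (PrimeSpectrum.comap π.pb β) := fun β =>
    congrArg (fun m : Spec _ ⟶ glued ι ξ => m β) (fromSpec_inY hcov π)
  have hsr : e.hom (chart ι ξ π s) = r := by
    rw [hs, ← Scheme.Hom.comp_apply, e.inv_hom_id]; rfl
  have compat : ∀ z ∈ π.W, ι z ∈ (inX hcov ≫ e.hom) ⁻¹ᵁ O ↔ ξ z ∈ (inY hcov ≫ e.hom) ⁻¹ᵁ O :=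
    fun z _ => by
      show (inX hcov ≫ e.hom) (ι z) ∈ O ↔ (inY hcov ≫ e.hom) (ξ z) ∈ O
      rw [← Scheme.Hom.comp_apply, hP.w, Scheme.Hom.comp_apply]
  obtain ⟨ε, hε, h1, h2⟩ := π.exists_basic_of_opens _ _ compat s (by
    obtain ⟨β, hβ⟩ | ⟨α, hα, -⟩ := π.ringSq.exists_preimage s
    · refine .inr ⟨β, ?_, hβ⟩
      show (inY hcov ≫ e.hom) (π.hV.fromSpec β) ∈ O
      rw [Scheme.Hom.comp_apply, hB, hβ, hsr]; exact hr
    · refine .inl ⟨α, ?_, hα⟩
      show (inX hcov ≫ e.hom) (π.hU.fromSpec α) ∈ O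
      rw [Scheme.Hom.comp_apply, hA, hα, hsr]; exact hr)
  let π₀ := π.basic ε
  refine ⟨(Chart.ofAP hcov π₀).postIso e, ?_, ?_⟩
  · obtain ⟨s₀, hs₀⟩ := (π.range_res_basic ε).ge hε
    refine ⟨s₀, ?_⟩
    show e.hom (chart ι ξ π₀ s₀) = r
    rw [← hsr, ← chart_res ι ξ (π.basic_le ε), Scheme.Hom.comp_apply, hs₀]
  · rintro _ ⟨x, rfl⟩
    show e.hom (chart ι ξ π₀ x) ∈ O
    obtain ⟨β, hβ⟩ | ⟨α, hα, -⟩ := π₀.ringSq.exists_preimage x
    · rw [← hβ, ← show inY hcov (π₀.hV.fromSpec β) = chart ι ξ π₀ (PrimeSpectrum.comap π₀.pb β) from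
        congrArg (fun m : Spec _ ⟶ glued ι ξ => m β) (fromSpec_inY hcov π₀), ← Scheme.Hom.comp_apply]
      exact h2 (π₀.hV.range_fromSpec.le ⟨β, rfl⟩)
    · rw [← hα, ← show inX hcov (π₀.hU.fromSpec α) = chart ι ξ π₀ (PrimeSpectrum.comap π₀.pa α) from
        congrArg (fun m : Spec _ ⟶ glued ι ξ => m α) (fromSpec_inX hcov π₀), ← Scheme.Hom.comp_apply]
      exact h1 (π₀.hU.range_fromSpec.le ⟨α, rfl⟩)

/-- Flat base change of a pushout along a closed immersion. -/
theorem isPushout_baseChange_flat (hP : IsPushout ι ξ a b) (hcov : ∀ τ : T, ∃ π : AP ι ξ, τ ∈ π.V)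
    (f : X ⟶ S) (t : T ⟶ S) (z : Z ⟶ S) (p : P ⟶ S) (hι : ι ≫ f = z) (hξ : ξ ≫ t = z)
    (hap : a ≫ p = f) (hbp : b ≫ p = t) (g : S' ⟶ S) [Flat g] :
    IsPushout
      (pullback.lift (pullback.fst z g ≫ ι) (pullback.snd z g)
        (by rw [Category.assoc, hι, pullback.condition]) : pullback z g ⟶ pullback f g)
      (pullback.lift (pullback.fst z g ≫ ξ) (pullback.snd z g)
        (by rw [Category.assoc, hξ, pullback.condition]) : pullback z g ⟶ pullback t g)
      (pullback.lift (pullback.fst f g ≫ a) (pullback.snd f g)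
        (by rw [Category.assoc, hap, pullback.condition]) : pullback f g ⟶ pullback p g)
      (pullback.lift (pullback.fst t g ≫ b) (pullback.snd t g)
        (by rw [Category.assoc, hbp, pullback.condition]) : pullback t g ⟶ pullback p g) := by
  subst hap hbp hι
  refine Chart.isPushout ?_ fun O r hr => ?_
  · ext <;> simp only [Category.assoc, pullback.lift_fst, pullback.lift_fst_assoc, pullback.lift_snd]
    rw [hP.w]
  obtain ⟨c, hc, -⟩ := exists_chart_refine hP hcov ⊤ (pullback.fst p g r) trivial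
  obtain ⟨V, hV, ψ, hrV, hVO, hψ⟩ := exists_affine_lift (pullback.fst p g) c O r hr hc
  have hinj : c.Inj _ ψ := c.inj_of_flat ψ (flat_chart (pullback.fst p g) c hV ψ hψ)
  obtain ⟨c', hc'⟩ := Chart.exists_baseChange (pullback.fst p g)
    (isPullback_lift g a rfl) (isPullback_lift g b rfl)
    (ι' := pullback.lift (pullback.fst (ι ≫ a ≫ p) g ≫ ι) (pullback.snd (ι ≫ a ≫ p) g)
      (by rw [Category.assoc, pullback.condition]))
    (ξ' := pullback.lift (pullback.fst (ι ≫ a ≫ p) g ≫ ξ) (pullback.snd (ι ≫ a ≫ p) g)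
      (by rw [Category.assoc, hξ, pullback.condition]))
    (qZ := pullback.fst (ι ≫ a ≫ p) g) (by
      convert isPullback_lift g (m := ι ≫ a ≫ p) (ι ≫ a) (Category.assoc _ _ _) using 1
      ext <;> simp only [Category.assoc, pullback.lift_fst, pullback.lift_fst_assoc, pullback.lift_snd])
    hP.w (by
      ext <;> simp only [Category.assoc, pullback.lift_fst, pullback.lift_fst_assoc, pullback.lift_snd]
      rw [hP.w])
    (pullback.lift_fst _ _ _) (pullback.lift_fst _ _ _) c hV.fromSpec ψ hψ hinj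
  refine ⟨c', ?_, ?_⟩ <;> rw [hc', hV.range_fromSpec]
  exacts [hrV, hVO]

/-- Base change of a cartesian pushout square whose corner is flat over the base. -/
theorem isPushout_baseChange_corner [IsAffineHom ξ] [IsAffineHom a] [IsClosedImmersion b]
    (hP : IsPushout ι ξ a b) (p : P ⟶ S) (m : Z ⟶ S) (hm : m = ι ≫ a ≫ p) [Flat m] (g : S' ⟶ S) :
    IsPushout
      (pullback.lift (pullback.fst m g ≫ ι) (pullback.snd m g)
        (by rw [Category.assoc, ← hm, pullback.condition]) : pullback m g ⟶ pullback (a ≫ p) g)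
      (pullback.lift (pullback.fst m g ≫ ξ) (pullback.snd m g)
        (by rw [Category.assoc, ← reassoc_of% hP.w, ← hm, pullback.condition]) :
          pullback m g ⟶ pullback (b ≫ p) g)
      (pullback.lift (pullback.fst (a ≫ p) g ≫ a) (pullback.snd (a ≫ p) g)
        (by rw [Category.assoc, pullback.condition]) : pullback (a ≫ p) g ⟶ pullback p g)
      (pullback.lift (pullback.fst (b ≫ p) g ≫ b) (pullback.snd (b ≫ p) g)
        (by rw [Category.assoc, pullback.condition]) : pullback (b ≫ p) g ⟶ pullback p g) := by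
  subst hm
  have hcov : ∀ τ : T, ∃ π : AP ι ξ, τ ∈ π.V := fun τ => by
    obtain ⟨W, hW, hτW, -⟩ :=
      exists_isAffineOpen_mem_and_subset (Set.mem_univ (b τ)) (U := (⊤ : P.Opens))
    exact ⟨⟨a ⁻¹ᵁ W, b ⁻¹ᵁ W, hW.preimage a, hW.preimage b, by
      rw [← Scheme.Hom.comp_preimage, hP.w, Scheme.Hom.comp_preimage]⟩, hτW⟩
  have hpo := Chart.isPushout_rs (exists_chart_refine hP hcov) hP.w
  haveI : IsAffineHom b := inferInstance
  refine Chart.isPushout ?_ fun O r hr => ?_
  · ext <;> simp only [Category.assoc, pullback.lift_fst, pullback.lift_fst_assoc, pullback.lift_snd]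
    rw [hP.w]
  exact exists_chart_overPullback (a ≫ p) (b ≫ p) p (by rw [reassoc_of% hP.w]) rfl rfl hpo g O r hr

end Groth.Agent.H8Props.PushoutProps
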