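import Groth.Agent.H28Pinch.Glued
import Groth.Agent.H7Flat.AdaptedPairs
import Groth.Agent.H13Grpd.InvariantAffine

/-!
# Finite sets in affine opens of a pushout of two closed immersions
-/

set_option autoImplicit false
set_option linter.style.haveILetI false
set_option backward.isDefEq.respectTransparency false

universe u

open CategoryTheory Limits AlgebraicGeometry TopologicalSpace Opposite

namespace Groth.Agent.H8Props.PushoutProps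

open Groth.Agent.H7Flat

/-- Prime avoidance in a coset of an ideal. -/
theorem exists_add_notMem {R : Type u} [CommRing R] (a : R) (I : Ideal R) (S : Finset (Ideal R))
    (hS : ∀ P ∈ S, P.IsPrime) (h : ∀ P ∈ S, a ∈ P → ¬ I ≤ P) : ∃ k ∈ I, ∀ P ∈ S, a + k ∉ P := by
  classical
  obtain ⟨S', hS'⟩ : ∃ S' : Finset (Ideal R), ∀ P, P ∈ S' ↔ P ∈ S ∧ ∀ Q ∈ S, P ≤ Q → Q ≤ P :=
    ⟨S.filter (fun P => ∀ Q ∈ S, P ≤ Q → Q ≤ P), fun P => Finset.mem_filter⟩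
  obtain ⟨T, hT⟩ : ∃ T : Finset (Ideal R), ∀ P, P ∈ T ↔ P ∈ S' ∧ a ∈ P :=
    ⟨S'.filter (fun P => a ∈ P), fun P => Finset.mem_filter⟩
  obtain ⟨N, hN, hN'⟩ : ∃ N : Ideal R, (∀ Q ∈ S', Q ∉ T → N ≤ Q) ∧
      ∀ P : Ideal R, P.IsPrime → N ≤ P → ∃ Q ∈ S', Q ∉ T ∧ Q ≤ P := by
    refine ⟨(S' \ T).inf (fun Q => Q), fun Q hQ hQT => ?_, fun P hP hle => ?_⟩
    · exact Finset.inf_le (f := fun Q : Ideal R => Q) (Finset.mem_sdiff.2 ⟨hQ, hQT⟩)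
    · obtain ⟨Q, hQ, hQP⟩ := hP.inf_le'.1 hle
      exact ⟨Q, (Finset.mem_sdiff.1 hQ).1, (Finset.mem_sdiff.1 hQ).2, hQP⟩
  have hJ : ∀ P ∈ T, ¬ I * N ≤ P := by
    intro P hP hle
    obtain ⟨hPS', haP⟩ := (hT P).1 hP
    obtain ⟨hPS, hmax⟩ := (hS' P).1 hPS'
    rcases (hS P hPS).mul_le.1 hle with h1 | h1
    · exact h P hPS haP h1
    obtain ⟨Q, hQS', hQT, hQP⟩ := hN' P (hS P hPS) h1
    exact hQT ((hT Q).2 ⟨hQS', ((hS' Q).1 hQS').2 P hPS hQP haP⟩)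
  obtain ⟨k, hkJ, hk⟩ : ∃ k ∈ I * N, ∀ P ∈ T, k ∉ P := by
    rcases T.eq_empty_or_nonempty with h0 | ⟨P₀, -⟩
    · exact ⟨0, zero_mem _, by simp [h0]⟩
    by_contra! hne
    have hsub : ((I * N : Ideal R) : Set R) ⊆ ⋃ P ∈ (T : Set (Ideal R)), (P : Set R) := fun x hx => by
      obtain ⟨P, hP, hxP⟩ := hne x hx
      exact Set.mem_biUnion hP hxP
    obtain ⟨P, hP, hle⟩ := (Ideal.subset_union_prime (f := fun P : Ideal R => P) P₀ P₀ fun P hP _ _ =>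
      hS P ((hS' P).1 ((hT P).1 hP).1).1).1 hsub
    exact hJ P hP hle
  refine ⟨k, (Ideal.mul_le_left : I * N ≤ I) hkJ, fun P hP hmem => ?_⟩
  obtain ⟨M, hPM, hM⟩ := S.exists_le_maximal hP
  have hMS' : M ∈ S' := (hS' M).2 ⟨hM.1, fun Q hQ hle => hM.2 hQ hle⟩
  have hmemM : a + k ∈ M := hPM hmem
  by_cases haM : a ∈ M
  · exact hk M ((hT M).2 ⟨hMS', haM⟩) ((Submodule.add_mem_iff_right M haM).1 hmemM)
  · have hkM : k ∈ M := hN M hMS' (fun hTM => haM ((hT M).1 hTM).2) ((Ideal.mul_le_right : I * N ≤ N) hkJ)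
    exact haM ((Submodule.add_mem_iff_left M hkM).1 hmemM)

theorem exists_AP_of_finite {Y X₁ X₂ : Scheme.{u}} (i : Y ⟶ X₁) (j : Y ⟶ X₂) [IsClosedImmersion i]
    [IsClosedImmersion j] (E₁ : Set X₁) (E₂ : Set X₂) (hE₁ : E₁.Finite) (hE₂ : E₂.Finite)
    (hc : ∀ z, i z ∈ E₁ ↔ j z ∈ E₂)
    (U₁ : X₁.Opens) (hU₁ : IsAffineOpen U₁) (h₁ : E₁ ⊆ U₁) (U₂ : X₂.Opens) (hU₂ : IsAffineOpen U₂)
    (h₂ : E₂ ⊆ U₂) : ∃ π : AP i j, E₁ ⊆ π.U ∧ E₂ ⊆ π.V := by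
  classical
  let O₁ : X₁.Opens := U₁ ⊓ ⟨(i '' ((j ⁻¹ᵁ U₂ : Y.Opens) : Set Y)ᶜ)ᶜ,
    (i.isClosedMap _ (j ⁻¹ᵁ U₂).2.isClosed_compl).isOpen_compl⟩
  have hO₁ : E₁ ⊆ O₁ := fun x hx => ⟨h₁ hx, by
    rintro ⟨z, hz, rfl⟩
    exact hz (h₂ ((hc z).1 hx))⟩
  obtain ⟨f₁, hf₁, hf₁O⟩ := H13Grpd.exists_basicOpen_finite hU₁ hE₁ hO₁ inf_le_left
  let U : X₁.Opens := X₁.basicOpen f₁
  have hU : IsAffineOpen U := hU₁.basicOpen f₁
  let W : Y.Opens := i ⁻¹ᵁ U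
  have hW : IsAffineOpen W := hU.preimage i
  have hWU₂ : W ≤ j ⁻¹ᵁ U₂ := fun z hz => by
    by_contra hn
    exact (hf₁O hz).2 ⟨z, hn, rfl⟩
  let O₂ : X₂.Opens := U₂ ⊓ ⟨(j '' (W : Set Y)ᶜ)ᶜ,
    (j.isClosedMap _ W.2.isClosed_compl).isOpen_compl⟩
  have hO₂ : E₂ ⊆ O₂ := fun x hx => ⟨h₂ hx, by
    rintro ⟨z, hz, rfl⟩
    exact hz (hf₁ ((hc z).2 hx))⟩
  obtain ⟨b, hb, hbO⟩ := H13Grpd.exists_basicOpen_finite hU₂ hE₂ hO₂ inf_le_left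
  let s : Γ(Y, W) := j.appLE U₂ W hWU₂ b
  have hjb : j ⁻¹ᵁ X₂.basicOpen b = Y.basicOpen s := by
    rw [show Y.basicOpen s = W ⊓ j ⁻¹ᵁ X₂.basicOpen b by
      rw [Scheme.preimage_basicOpen]
      exact Scheme.basicOpen_res Y _ _]
    refine (inf_eq_right.2 fun z hz => ?_).symm
    by_contra hn
    exact (hbO hz).2 ⟨z, hn, rfl⟩
  let q : Γ(X₁, U) →+* Γ(Y, W) := (i.app U).hom
  have hq : Function.Surjective q := i.app_surjective U hU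
  obtain ⟨a, ha⟩ := hq s
  have hfin := hE₁.preimage (f := hU.fromSpec) hU.fromSpec.isOpenEmbedding.injective.injOn
  obtain ⟨k, hk, hak⟩ := exists_add_notMem a (RingHom.ker q)
    (hfin.toFinset.image fun p : PrimeSpectrum Γ(X₁, U) => p.asIdeal) (by
      intro P hP
      obtain ⟨p, -, rfl⟩ := Finset.mem_image.1 hP
      exact p.isPrime) (by
      intro P hP haP hle
      obtain ⟨p, hp, rfl⟩ := Finset.mem_image.1 hP
      have hp' : hU.fromSpec p ∈ E₁ := hfin.mem_toFinset.1 hp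
      obtain ⟨Q, hQ⟩ := (range_comap_of_surjective _ q hq).ge hle
      have hpt : i (hW.fromSpec Q) = hU.fromSpec p := by
        rw [← hQ, ← Scheme.Hom.comp_apply, ← hU.SpecMap_appLE_fromSpec i hW le_rfl,
          Scheme.Hom.comp_apply, Scheme.Hom.appLE_eq_app]
        rfl
      have hz : hW.fromSpec Q ∈ j ⁻¹ᵁ X₂.basicOpen b := hb ((hc _).1 (hpt ▸ hp'))
      rw [hjb] at hz
      have hQs : Q ∈ hW.fromSpec ⁻¹ᵁ Y.basicOpen s := hz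
      rw [hW.fromSpec_preimage_basicOpen] at hQs
      refine hQs ?_
      rw [← ha]
      rw [← hQ] at haP
      exact haP)
  have hqa : q (a + k) = s := by rw [map_add, show q k = 0 from hk, add_zero, ha]
  refine ⟨⟨X₁.basicOpen (a + k), X₂.basicOpen b, hU.basicOpen _, hU₂.basicOpen b, ?_⟩, fun x hx => ?_, hb⟩
  · rw [Scheme.preimage_basicOpen, hjb]
    exact congrArg Y.basicOpen hqa
  · obtain ⟨p, rfl⟩ := hU.range_fromSpec.ge (hf₁ hx : x ∈ U)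
    have : p ∈ hU.fromSpec ⁻¹ᵁ X₁.basicOpen (a + k) := by
      rw [hU.fromSpec_preimage_basicOpen]
      exact hak _ (Finset.mem_image.2 ⟨p, hfin.mem_toFinset.2 hx, rfl⟩)
    exact this

theorem exists_affine_nhd_finite {Y X₁ X₂ X : Scheme.{u}} (i : Y ⟶ X₁) (j : Y ⟶ X₂) [IsClosedImmersion i]
    [IsClosedImmersion j] (a : X₁ ⟶ X) (b : X₂ ⟶ X) (hX : IsPushout i j a b) (E : Set X) (hE : E.Finite)
    (h₁ : ∃ U₁ : X₁.Opens, IsAffineOpen U₁ ∧ a ⁻¹' E ⊆ (U₁ : Set X₁))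
    (h₂ : ∃ U₂ : X₂.Opens, IsAffineOpen U₂ ∧ b ⁻¹' E ⊆ (U₂ : Set X₂)) :
    ∃ U : X.Opens, IsAffineOpen U ∧ E ⊆ (U : Set X) := by
  have haff : ∀ y : X₂, ∃ U : X₁.Opens, IsAffineOpen U ∧ j ⁻¹' {y} ⊆ i ⁻¹' (U : Set X₁) := fun y => by
    by_cases hy : ∃ z, j z = y
    · obtain ⟨z, rfl⟩ := hy
      obtain ⟨U, hU, hzU, -⟩ :=
        exists_isAffineOpen_mem_and_subset (Set.mem_univ (i z)) (U := (⊤ : X₁.Opens))
      refine ⟨U, hU, fun z' hz' => ?_⟩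
      show i z' ∈ U
      rwa [j.isClosedEmbedding.injective (show j z' = j z from hz')]
    · exact ⟨⊥, isAffineOpen_bot _, fun z hz => (hy ⟨z, hz⟩).elim⟩
  have hcov : ∀ y : X₂, ∃ π : AP i j, y ∈ π.V := exists_adapted_pair i j haff
  obtain ⟨e, he1, he2⟩ := H28Pinch.exists_iso_glued a b hX hcov
  haveI := inX_isClosedImmersion hcov
  haveI := inY_isClosedImmersion hcov
  haveI : IsClosedImmersion a := he1 ▸ inferInstance
  haveI : IsClosedImmersion b := he2 ▸ inferInstance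
  obtain ⟨U₁, hU₁, hs₁⟩ := h₁
  obtain ⟨U₂, hU₂, hs₂⟩ := h₂
  obtain ⟨π, hπ₁, hπ₂⟩ := exists_AP_of_finite i j (a ⁻¹' E) (b ⁻¹' E)
    (hE.preimage a.isClosedEmbedding.injective.injOn) (hE.preimage b.isClosedEmbedding.injective.injOn)
    (fun z => by
      show a (i z) ∈ E ↔ b (j z) ∈ E
      rw [← Scheme.Hom.comp_apply, hX.w, Scheme.Hom.comp_apply])
    U₁ hU₁ hs₁ U₂ hU₂ hs₂
  refine ⟨(chart i j π ≫ e.hom).opensRange, isAffineOpen_opensRange _, fun w hw => ?_⟩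
  have hwE : e.hom (e.inv w) = w := by rw [← Scheme.Hom.comp_apply, e.inv_hom_id]; rfl
  rcases H28Pinch.exists_preimage hcov (e.inv w) with ⟨x, hx⟩ | ⟨y, hy⟩
  · have hxw : a x = w := by rw [← he1, Scheme.Hom.comp_apply, hx, hwE]
    have hxU : x ∈ π.U := hπ₁ (show a x ∈ E from hxw ▸ hw)
    obtain ⟨r, hr⟩ := (inX_preimage hcov π).ge (π.hU.range_fromSpec.ge hxU)
    exact ⟨r, by rw [Scheme.Hom.comp_apply, hr, hx, hwE]⟩
  · have hyw : b y = w := by rw [← he2, Scheme.Hom.comp_apply, hy, hwE]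
    have hyV : y ∈ π.V := hπ₂ (show b y ∈ E from hyw ▸ hw)
    obtain ⟨r, hr⟩ := (inY_preimage hcov π).ge (π.hV.range_fromSpec.ge hyV)
    exact ⟨r, by rw [Scheme.Hom.comp_apply, hr, hy, hwE]⟩

end Groth.Agent.H8Props.PushoutProps
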