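import Groth.Agent.H8Props.PushoutQF.Main
import Groth.Agent.H8Props.PushoutProps.Descend
import Groth.Agent.H28Pinch.Glued
import Groth.Agent.H7Flat.AdaptedPairs
import Groth.Agent.H06Unram.SmoothQF
import Mathlib.AlgebraicGeometry.Morphisms.SmoothFiber
import Mathlib.AlgebraicGeometry.Morphisms.Etale

/-!
# Morphisms between pushouts of pairs of closed immersions
-/

set_option autoImplicit false
set_option linter.style.haveILetI false
set_option backward.isDefEq.respectTransparency false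

universe u

open CategoryTheory Limits AlgebraicGeometry TopologicalSpace Opposite TensorProduct

namespace Groth.Agent.H8Props.PushoutProps

open Groth.Agent.H7Flat Groth.Agent.H8Props.PushoutQF

theorem surjective_p {X Y Z : Scheme.{u}} {i : Z ⟶ X} {j : Z ⟶ Y} [IsClosedImmersion i] (π : AP i j) :
    Function.Surjective π.p :=
  π.ringSq.surj

theorem surjective_q {X Y Z : Scheme.{u}} {i : Z ⟶ X} {j : Z ⟶ Y} [IsClosedImmersion j] (π : AP i j) :
    Function.Surjective π.q := by
  intro z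
  obtain ⟨w, hw⟩ := j.app_surjective π.V π.hV (Z.presheaf.map (homOfLE π.hUV.ge).op z)
  refine ⟨w, ?_⟩
  show j.appLE π.V π.W π.W_le w = z
  rw [Scheme.Hom.appLE, CommRingCat.comp_apply, hw, ← CommRingCat.comp_apply, ← Functor.map_comp]
  exact (congrArg (fun m => Z.presheaf.map m z) (Subsingleton.elim _ (𝟙 (op π.W)))).trans (by simp)

theorem surjective_pa {X Y Z : Scheme.{u}} {i : Z ⟶ X} {j : Z ⟶ Y} [IsClosedImmersion i]
    [IsClosedImmersion j] (π : AP i j) : Function.Surjective π.pa := fun x => by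
  obtain ⟨y, hy⟩ := surjective_q π (π.p x)
  obtain ⟨w, hw, -⟩ := π.ringSq.exists_lift x y hy.symm
  exact ⟨w, hw⟩

section Ring

variable {R A B C R' A' B' C' : Type u} [CommRing R] [CommRing A] [CommRing B] [CommRing C]
  [CommRing R'] [CommRing A'] [CommRing B'] [CommRing C']
  {pa : R →+* A} {pb : R →+* B} {p : A →+* C} {q : B →+* C}
  {pa' : R' →+* A'} {pb' : R' →+* B'} {p' : A' →+* C'} {q' : B' →+* C'}
  {φ : R →+* R'} {fA : A →+* A'} {fB : B →+* B'} {fC : C →+* C'}

/-- Flatness and finite presentation descend to the fibre product. -/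
theorem sqHom_flat_fp (H : SqHom pa pb p q pa' pb' p' q' φ fA fB fC) (hpa : Function.Surjective pa) :
    (fA.Flat → fB.Flat → φ.Flat) ∧
    (fA.Flat → fB.Flat → fA.FinitePresentation → fB.FinitePresentation → φ.FinitePresentation) := by
  letI := pa.toAlgebra
  letI := pb.toAlgebra
  letI := φ.toAlgebra
  letI := fA.toAlgebra
  letI := fB.toAlgebra
  letI := pa'.toAlgebra
  letI := pb'.toAlgebra
  letI : Algebra R A' := (fA.comp pa).toAlgebra
  letI : Algebra R B' := (fB.comp pb).toAlgebra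
  haveI : IsScalarTower R A A' := IsScalarTower.of_algebraMap_eq fun _ => rfl
  haveI : IsScalarTower R B B' := IsScalarTower.of_algebraMap_eq fun _ => rfl
  haveI : IsScalarTower R R' A' := IsScalarTower.of_algebraMap_eq' H.commA.symm
  haveI : IsScalarTower R R' B' := IsScalarTower.of_algebraMap_eq' H.commB.symm
  haveI hPA : Algebra.IsPushout R A R' A' :=
    CommRingCat.isPushout_iff_isPushout.1 H.isPushout.1
  haveI hPB : Algebra.IsPushout R B R' B' :=
    CommRingCat.isPushout_iff_isPushout.1 H.isPushout.2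
  let eA := Algebra.IsPushout.equiv R A R' A'
  let eB := Algebra.IsPushout.equiv R B R' B'
  have hinj : RingHom.ker (algebraMap R B) ⊓ RingHom.ker (algebraMap R A) = ⊥ :=
    eq_bot_iff.2 fun x hx => by
      have h1 : pb x = 0 := hx.1
      have h2 : pa x = 0 := hx.2
      exact H.sq.ext x 0 (by rw [h2, map_zero]) (by rw [h1, map_zero])
  have hflat : fA.Flat → fB.Flat → Module.Flat R R' := fun hA hB => by
    haveI : Module.Flat A A' := hA
    haveI : Module.Flat B B' := hB
    haveI : Module.Flat A (A ⊗[R] R') := Module.Flat.of_linearEquiv eA.toLinearEquiv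
    haveI : Module.Flat B (B ⊗[R] R') := Module.Flat.of_linearEquiv eB.toLinearEquiv
    exact flat_of_pieces hpa H.sq.snd_surjective hinj
  refine ⟨hflat, fun hA hB hA' hB' => ?_⟩
  haveI := hflat hA hB
  haveI : Algebra.FinitePresentation A A' := hA'
  haveI : Algebra.FinitePresentation B B' := hB'
  haveI : Algebra.FinitePresentation A (A ⊗[R] R') := Algebra.FinitePresentation.equiv eA.symm
  haveI : Algebra.FinitePresentation B (B ⊗[R] R') := Algebra.FinitePresentation.equiv eB.symm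
  haveI : Algebra.FiniteType R R' :=
    H.finiteType (RingHom.FiniteType.of_finitePresentation hA') (RingHom.FiniteType.of_finitePresentation hB')
  exact finitePresentation_of_pieces hpa H.sq.snd_surjective hinj

end Ring

/-- Morphisms of pushouts of closed immersions with cartesian sides are cartesian, and inherit properties. -/
theorem main_closed {X Y Z X' Y' Z' P P' : Scheme.{u}}
    (i : Z ⟶ X) (j : Z ⟶ Y) [IsClosedImmersion i] [IsClosedImmersion j] (a : X ⟶ P) (b : Y ⟶ P)
    (hP : IsPushout i j a b) (f : X' ⟶ X) (g : Y' ⟶ Y) (i' : Z' ⟶ X') (j' : Z' ⟶ Y') (h : Z' ⟶ Z)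
    (hX : IsPullback i' h f i) (hY : IsPullback j' h g j)
    (a' : X' ⟶ P') (b' : Y' ⟶ P') (hP' : IsPushout i' j' a' b') (k : P' ⟶ P) (ha : a' ≫ k = f ≫ a)
    (hb : b' ≫ k = g ≫ b) :
    IsClosedImmersion a ∧ IsClosedImmersion b ∧ (∀ r : P, (∃ x, a x = r) ∨ ∃ y, b y = r) ∧
    IsPullback f a' a k ∧ IsPullback g b' b k ∧
    (LocallyOfFiniteType f → LocallyOfFiniteType g → LocallyOfFiniteType k) ∧
    (Flat f → Flat g → Flat k) ∧
    (Flat f → Flat g → LocallyOfFinitePresentation f → LocallyOfFinitePresentation g →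
      LocallyOfFinitePresentation k) := by
  haveI : IsClosedImmersion i' := MorphismProperty.of_isPullback hX.flip inferInstance
  haveI : IsClosedImmersion j' := MorphismProperty.of_isPullback hY.flip inferInstance
  have haff : ∀ {X₀ Y₀ Z₀ : Scheme.{u}} (i₀ : Z₀ ⟶ X₀) (j₀ : Z₀ ⟶ Y₀) [IsClosedImmersion j₀] (y : Y₀),
      ∃ U : X₀.Opens, IsAffineOpen U ∧ j₀ ⁻¹' {y} ⊆ i₀ ⁻¹' (U : Set X₀) := by
    intro X₀ Y₀ Z₀ i₀ j₀ _ y
    by_cases hy : ∃ z, j₀ z = y
    · obtain ⟨z, rfl⟩ := hy
      obtain ⟨U, hU, hzU, -⟩ :=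
        exists_isAffineOpen_mem_and_subset (Set.mem_univ (i₀ z)) (U := (⊤ : X₀.Opens))
      refine ⟨U, hU, fun z' hz' => ?_⟩
      show i₀ z' ∈ U
      rwa [j₀.isClosedEmbedding.injective (show j₀ z' = j₀ z from hz')]
    · exact ⟨⊥, isAffineOpen_bot _, fun z hz => (hy ⟨z, hz⟩).elim⟩
  have hcov := exists_adapted_pair i j (haff i j)
  have hcov' := exists_adapted_pair i' j' (haff i' j')
  obtain ⟨e, rfl, rfl⟩ := H28Pinch.exists_iso_glued a b hP hcov
  obtain ⟨e', rfl, rfl⟩ := H28Pinch.exists_iso_glued a' b' hP' hcov'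
  let k₀ : glued i' j' ⟶ glued i j := e'.hom ≫ k ≫ e.inv
  have hk : k = e'.inv ≫ k₀ ≫ e.hom := by simp [k₀]
  have hkX : inX hcov' ≫ k₀ = f ≫ inX hcov := by simp [k₀, reassoc_of% ha]
  have hkY : inY hcov' ≫ k₀ = g ≫ inY hcov := by simp [k₀, reassoc_of% hb]
  let I := {x : AP i' j' × AP i j // Over' f g x.1 x.2}
  let 𝒰 : (glued i' j').OpenCover :=
    { I₀ := I
      X := fun x => Spec (CommRingCat.of x.1.1.R)
      f := fun x => chart i' j' x.1.1
      mem₀ := by
        rw [Scheme.presieve₀_mem_precoverage_iff]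
        refine ⟨fun w => ?_, fun x => inferInstance⟩
        obtain ⟨π', π, o, hw⟩ := exists_over hX.flip hY.flip hcov w
        exact ⟨⟨(π', π), o⟩, hw⟩ }
  have hkey : ∀ x : I, chart i' j' x.1.1 ≫ k₀ = sm (x.2.φ hX.flip hY.flip) ≫ chart i j x.1.2 := fun x =>
    x.2.chart_comp hX.flip hY.flip hcov hcov' k₀ hkX hkY
  have hloc : ∀ (Q : MorphismProperty Scheme.{u}) [IsZariskiLocalAtSource Q] [Q.RespectsIso]
      [Q.IsStableUnderComposition],
      (∀ {U V : Scheme.{u}} (u : U ⟶ V), IsOpenImmersion u → Q u) →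
      (∀ x : I, Q (sm (x.2.φ hX.flip hY.flip))) → Q k := by
    intro Q _ _ _ hopen hQ
    rw [hk, Q.cancel_left_of_respectsIso, Q.cancel_right_of_respectsIso]
    refine IsZariskiLocalAtSource.of_openCover 𝒰 fun x => ?_
    show Q (chart i' j' x.1.1 ≫ k₀)
    rw [hkey x]
    exact Q.comp_mem _ _ (hQ x) (hopen _ inferInstance)
  have hpb : IsPullback g (inY hcov') (inY hcov) k₀ := by
    refine isPullback_of_cover hkY.symm fun c => ?_
    obtain ⟨π', π, o, hc⟩ := exists_over hX.flip hY.flip hcov c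
    have h1 : IsPullback π'.hV.fromSpec (sm π'.pb) (inY hcov') (chart i' j' π') :=
      (IsOpenImmersion.isPullback _ _ _ _ (fromSpec_inY hcov' π') (inY_preimage hcov' π')).flip
    refine ⟨_, chart i' j' π', inferInstance, hc, _, π'.hV.fromSpec, sm π'.pb, h1, ?_⟩
    rw [← o.spec_fB, o.chart_comp hX.flip hY.flip hcov hcov' k₀ hkX hkY]
    exact (isPullback_SpecMap_of_isPushout _ _ _ _ (o.sqHom hX.flip hY.flip).isPushout.2).paste_horiz
      (IsOpenImmersion.isPullback _ _ _ _ (fromSpec_inY hcov π) (inY_preimage hcov π)).flip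
  have hpa : IsPullback f (inX hcov') (inX hcov) k₀ := by
    refine isPullback_of_cover hkX.symm fun c => ?_
    obtain ⟨π', π, o, hc⟩ := exists_over hX.flip hY.flip hcov c
    have h1 : IsPullback π'.hU.fromSpec (sm π'.pa) (inX hcov') (chart i' j' π') :=
      (IsOpenImmersion.isPullback _ _ _ _ (fromSpec_inX hcov' π') (inX_preimage hcov' π')).flip
    refine ⟨_, chart i' j' π', inferInstance, hc, _, π'.hU.fromSpec, sm π'.pa, h1, ?_⟩
    rw [← o.spec_fA, o.chart_comp hX.flip hY.flip hcov hcov' k₀ hkX hkY]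
    exact (isPullback_SpecMap_of_isPushout _ _ _ _ (o.sqHom hX.flip hY.flip).isPushout.1).paste_horiz
      (IsOpenImmersion.isPullback _ _ _ _ (fromSpec_inX hcov π) (inX_preimage hcov π)).flip
  haveI := inY_isClosedImmersion hcov
  haveI := inX_isClosedImmersion hcov
  refine ⟨inferInstance, inferInstance, fun r => ?_, ?_, ?_, fun hf hg => ?_, fun hf hg => ?_,
    fun hf hg hf' hg' => ?_⟩
  · rcases exists_preimage_glued hcov (e.inv r) with ⟨x, hx⟩ | ⟨y, hy⟩
    · exact .inl ⟨x, by rw [Scheme.Hom.comp_apply, hx, ← Scheme.Hom.comp_apply, e.inv_hom_id]; rfl⟩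
    · exact .inr ⟨y, by rw [Scheme.Hom.comp_apply, hy, ← Scheme.Hom.comp_apply, e.inv_hom_id]; rfl⟩
  · exact hpa.of_iso (Iso.refl _) (Iso.refl _) e' e (by simp) (by simp) (by simp) (by simp [k₀])
  · exact hpb.of_iso (Iso.refl _) (Iso.refl _) e' e (by simp) (by simp) (by simp) (by simp [k₀])
  · refine hloc @LocallyOfFiniteType (fun u hu => inferInstance) fun x => ?_
    exact (HasRingHomProperty.Spec_iff (P := @LocallyOfFiniteType)).2 ((x.2.sqHom hX.flip hY.flip).finiteType
      (f.finiteType_appLE x.1.2.hU x.1.1.hU x.2.hU) (g.finiteType_appLE x.1.2.hV x.1.1.hV x.2.hV))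
  · refine hloc @Flat (fun u hu => inferInstance) fun x => ?_
    exact (HasRingHomProperty.Spec_iff (P := @Flat)).2
      ((sqHom_flat_fp (x.2.sqHom hX.flip hY.flip) (surjective_pa x.1.2)).1
        (f.flat_appLE x.1.2.hU x.1.1.hU x.2.hU) (g.flat_appLE x.1.2.hV x.1.1.hV x.2.hV))
  · refine hloc @LocallyOfFinitePresentation (fun u hu => inferInstance) fun x => ?_
    exact (HasRingHomProperty.Spec_iff (P := @LocallyOfFinitePresentation)).2
      ((sqHom_flat_fp (x.2.sqHom hX.flip hY.flip) (surjective_pa x.1.2)).2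
        (f.flat_appLE x.1.2.hU x.1.1.hU x.2.hU) (g.flat_appLE x.1.2.hV x.1.1.hV x.2.hV)
        (f.finitePresentation_appLE x.1.2.hU x.1.1.hU x.2.hU)
        (g.finitePresentation_appLE x.1.2.hV x.1.1.hV x.2.hV))

/-- A property of fibres spreads along a jointly surjective pair of preimmersions. -/
theorem fiber_of_isPullback {Q : MorphismProperty Scheme.{u}} [Q.IsStableUnderBaseChange] [Q.RespectsIso]
    {X X' P P' : Scheme.{u}} {f : X' ⟶ X} {a' : X' ⟶ P'} {a : X ⟶ P} {k : P' ⟶ P} [IsPreimmersion a]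
    (hpb : IsPullback f a' a k) (hf : Q f) (x : X) : Q (k.fiberToSpecResidueField (a x)) := by
  have hbij : Function.Bijective (a.residueFieldMap x) := by
    refine ⟨RingHom.injective (a.residueFieldMap x).hom, fun y => ?_⟩
    obtain ⟨y, rfl⟩ := X.residue_surjective x y
    obtain ⟨z, rfl⟩ := a.stalkMap_surjective x y
    exact ⟨P.residue _ z, congr($(Scheme.residue_residueFieldMap a x) z)⟩
  haveI : IsIso (a.residueFieldMap x) := (ConcreteCategory.isIso_iff_bijective _).2 hbij
  have e : P.fromSpecResidueField (a x) =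
      inv (Spec.map (a.residueFieldMap x)) ≫ X.fromSpecResidueField x ≫ a := by
    rw [IsIso.eq_inv_comp, Scheme.Hom.SpecMap_residueFieldMap_fromSpecResidueField]
  have key : ∀ m, m = (inv (Spec.map (a.residueFieldMap x)) ≫ X.fromSpecResidueField x) ≫ a →
      Q (pullback.snd k m) := by
    rintro m rfl
    have h1 : Q (pullback.snd k a) := by
      rw [← hpb.flip.isoPullback_inv_snd]
      exact (Q.cancel_left_of_respectsIso _ _).mpr hf
    have h2 := MorphismProperty.pullback_snd (P := Q) (pullback.snd k a)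
      (inv (Spec.map (a.residueFieldMap x)) ≫ X.fromSpecResidueField x) h1
    rw [← pullbackLeftPullbackSndIso_hom_snd k a _] at h2
    exact (Q.cancel_left_of_respectsIso _ _).mp h2
  exact key _ (e.trans (Category.assoc _ _ _).symm)

/-- The fibres of `k` are those of `f` and `g`. -/
theorem fiber_of_pair {Q : MorphismProperty Scheme.{u}} [Q.IsStableUnderBaseChange] [Q.RespectsIso]
    {X Y X' Y' P P' : Scheme.{u}} {f : X' ⟶ X} {g : Y' ⟶ Y} {a' : X' ⟶ P'} {b' : Y' ⟶ P'} {a : X ⟶ P}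
    {b : Y ⟶ P} {k : P' ⟶ P} [IsPreimmersion a] [IsPreimmersion b]
    (hjs : ∀ r : P, (∃ x, a x = r) ∨ ∃ y, b y = r) (hpa : IsPullback f a' a k) (hpb : IsPullback g b' b k)
    (hf : Q f) (hg : Q g) (r : P) : Q (k.fiberToSpecResidueField r) := by
  rcases hjs r with ⟨x, rfl⟩ | ⟨y, rfl⟩
  · exact fiber_of_isPullback hpa hf x
  · exact fiber_of_isPullback hpb hg y

/-- Properties of morphisms between pushouts of closed immersions. -/
theorem properties_iff {X Y Z X' Y' Z' P P' : Scheme.{u}}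
    (i : Z ⟶ X) (j : Z ⟶ Y) [IsClosedImmersion i] [IsClosedImmersion j] (a : X ⟶ P) (b : Y ⟶ P)
    (hP : IsPushout i j a b) (f : X' ⟶ X) (g : Y' ⟶ Y) (i' : Z' ⟶ X') (j' : Z' ⟶ Y') (c : Z' ⟶ Z)
    (hX : IsPullback i' c f i) (hY : IsPullback j' c g j)
    (a' : X' ⟶ P') (b' : Y' ⟶ P') (hP' : IsPushout i' j' a' b') (h : P' ⟶ P) (ha : a' ≫ h = f ≫ a)
    (hb : b' ≫ h = g ≫ b) :
    (LocallyOfFiniteType h ↔ LocallyOfFiniteType f ∧ LocallyOfFiniteType g) ∧
    (Flat h ↔ Flat f ∧ Flat g) ∧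
    ((Flat h ∧ LocallyOfFinitePresentation h) ↔
      (Flat f ∧ LocallyOfFinitePresentation f) ∧ (Flat g ∧ LocallyOfFinitePresentation g)) ∧
    (Smooth h ↔ Smooth f ∧ Smooth g) ∧
    (Etale h ↔ Etale f ∧ Etale g) := by
  obtain ⟨hca, hcb, hjs, hpa, hpb, hlft, hflat, hfp⟩ :=
    main_closed i j a b hP f g i' j' c hX hY a' b' hP' h ha hb
  have down : ∀ (Q : MorphismProperty Scheme.{u}) [Q.IsStableUnderBaseChange], Q h → Q f ∧ Q g :=
    fun Q _ hQ => ⟨Q.of_isPullback hpa.flip hQ, Q.of_isPullback hpb.flip hQ⟩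
  have hsm : Smooth f → Smooth g → Smooth h := fun hf hg => by
    haveI := hflat inferInstance inferInstance
    haveI := hfp inferInstance inferInstance inferInstance inferInstance
    exact Smooth.of_smooth_fiberToSpecResidueField h (fiber_of_pair hjs hpa hpb hf hg)
  refine ⟨⟨down @LocallyOfFiniteType, fun hh => hlft hh.1 hh.2⟩, ⟨down @Flat, fun hh => hflat hh.1 hh.2⟩,
    ⟨fun hh => ⟨⟨(down @Flat hh.1).1, (down @LocallyOfFinitePresentation hh.2).1⟩,
      ⟨(down @Flat hh.1).2, (down @LocallyOfFinitePresentation hh.2).2⟩⟩,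
      fun hh => ⟨hflat hh.1.1 hh.2.1, hfp hh.1.1 hh.2.1 hh.1.2 hh.2.2⟩⟩,
    ⟨down @Smooth, fun hh => hsm hh.1 hh.2⟩, ⟨down @Etale, fun hh => ?_⟩⟩
  haveI := hh.1
  haveI := hh.2
  refine (H06Unram.etale_iff_smooth_and_locallyQuasiFinite h).mpr
    ⟨hsm inferInstance inferInstance, LocallyQuasiFinite.of_fiberToSpecResidueField _ fun r => ?_⟩
  exact ((H06Unram.etale_iff_smooth_and_locallyQuasiFinite _).mp
    (fiber_of_pair (Q := @Etale) hjs hpa hpb hh.1 hh.2 r)).2

end Groth.Agent.H8Props.PushoutProps
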